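import Groth.Prelude.Def_DualGr
import Groth.Agent.Lib.AdicExtra.Local
import Mathlib.RingTheory.MvPowerSeries.Inverse

/-!
# The thickness ideal of a thick node is well defined
-/

set_option autoImplicit false

universe u

open IsLocalRing MvPowerSeries

namespace GrothLib.ThickNode

/-- The exponent of the `i`-th variable. -/
noncomputable abbrev e1 (i : Fin 2) : Fin 2 →₀ ℕ := Finsupp.single i 1

variable {S : Type u} [CommRing S]

lemma not_le_e1 (i : Fin 2) : ¬ (e1 0 + e1 1 : Fin 2 →₀ ℕ) ≤ e1 i := by
  intro h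
  have h0 := h 0; have h1 := h 1
  fin_cases i <;> simp [e1] at h0 h1

lemma coeff_XX_mul (i : Fin 2) (H : MvPowerSeries (Fin 2) S) :
    coeff (e1 i) (X 0 * X 1 * H) = 0 := by
  rw [X, X, monomial_mul_monomial, coeff_monomial_mul, if_neg (not_le_e1 i)]

lemma coeff_zero_XX_mul (H : MvPowerSeries (Fin 2) S) :
    constantCoeff (X 0 * X 1 * H) = 0 := by simp

lemma coeff_e1_mul (i : Fin 2) (F G : MvPowerSeries (Fin 2) S) :
    coeff (e1 i) (F * G) = constantCoeff F * coeff (e1 i) G + coeff (e1 i) F * constantCoeff G := by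
  classical
  rw [coeff_mul, Finsupp.antidiagonal_single, Finset.sum_map,
    Finset.Nat.sum_antidiagonal_succ, Finset.Nat.antidiagonal_zero, Finset.sum_singleton]
  simp

/-- An element with constant coefficient zero lies in the ideal of the variables. -/
lemma exists_eq_of_constantCoeff_eq_zero (F : MvPowerSeries (Fin 2) S) (h : constantCoeff F = 0) :
    ∃ P Q, F = X 0 * P + X 1 * Q := by
  classical
  let P : MvPowerSeries (Fin 2) S := fun n => coeff (n + e1 0) F
  let Q : MvPowerSeries (Fin 2) S := fun n => if n 0 = 0 then coeff (n + e1 1) F else 0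
  refine ⟨P, Q, MvPowerSeries.ext fun n => ?_⟩
  rw [map_add, X, X, coeff_monomial_mul, coeff_monomial_mul]
  by_cases h0 : e1 0 ≤ n
  · rw [if_pos h0]
    have hn0 : n 0 ≠ 0 := by have := h0 0; simp [e1] at this; omega
    have e : n - e1 0 + e1 0 = n := tsub_add_cancel_of_le h0
    rw [show coeff (n - Finsupp.single 0 1) P = coeff (n - e1 0 + e1 0) F from rfl, e, one_mul]
    split_ifs with h1
    · rw [show coeff (n - Finsupp.single 1 1) Q = if (n - e1 1) 0 = 0 then _ else 0 from rfl,
        if_neg (by simpa [e1] using hn0), mul_zero, add_zero]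
    · rw [add_zero]
  · rw [if_neg h0, zero_add]
    have hn0 : n 0 = 0 := by
      by_contra hne
      refine h0 (fun j => ?_)
      fin_cases j <;> simp [e1]
      omega
    by_cases h1 : e1 1 ≤ n
    · rw [if_pos h1, one_mul, show coeff (n - Finsupp.single 1 1) Q =
        if (n - e1 1) 0 = 0 then coeff (n - e1 1 + e1 1) F else 0 from rfl,
        if_pos (by simp [e1, hn0]), tsub_add_cancel_of_le h1]
    · rw [if_neg h1]
      have : n = 0 := by
        ext j
        fin_cases j
        · simpa using hn0
        · by_contra hne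
          refine h1 (fun j => ?_)
          fin_cases j <;> simp [e1]
          simp at hne; omega
      rw [this, coeff_zero_eq_constantCoeff_apply, h]

end GrothLib.ThickNode

namespace GrothLib.ThickNode

variable {R : Type u} [CommRing R] [IsLocalRing R]

theorem mem_span_of_equiv {a b : R} (ha : a ∈ maximalIdeal R) (hb : b ∈ maximalIdeal R)
    [IsNoetherianRing R]
    (θ : DualGr.nodeRing R b ≃+* DualGr.nodeRing R a)
    (hθ : ∀ r : R, θ (Ideal.Quotient.mk _ (C (algebraMap R (Curv2.cpl R) r))) =
      Ideal.Quotient.mk _ (C (algebraMap R (Curv2.cpl R) r))) :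
    algebraMap R (Curv2.cpl R) b ∈ Ideal.span {algebraMap R (Curv2.cpl R) a} := by
  set T := Curv2.cpl R with hT
  set a' := algebraMap R T a
  set b' := algebraMap R T b
  have hmem : ∀ r ∈ maximalIdeal R, algebraMap R T r ∈ maximalIdeal T := fun r hr => by
    rw [AdicCompletion.maximalIdeal_eq_map]; exact Ideal.mem_map_of_mem _ hr
  obtain ⟨U, hU⟩ := Ideal.Quotient.mk_surjective (θ (Ideal.Quotient.mk _ (X 0)))
  obtain ⟨V, hV⟩ := Ideal.Quotient.mk_surjective (θ (Ideal.Quotient.mk _ (X 1)))
  obtain ⟨H, hH⟩ : ∃ H, U * V - C b' = (X 0 * X 1 - C a') * H := by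
    have h1 : (Ideal.Quotient.mk (Ideal.span {(X 0 * X 1 - C a' : MvPowerSeries (Fin 2) T)}))
        (U * V - C b') = 0 := by
      rw [map_sub, map_mul, hU, hV, ← hθ b, ← map_mul, ← map_sub, ← map_mul, ← map_sub,
        Ideal.Quotient.eq_zero_iff_mem.2 (Ideal.mem_span_singleton_self _), map_zero]
    obtain ⟨H, hH⟩ := Ideal.mem_span_singleton.1 (Ideal.Quotient.eq_zero_iff_mem.1 h1)
    exact ⟨H, hH⟩
  -- constant terms of `U`, `V` are in the maximal ideal
  have hnonunit : ∀ (F : MvPowerSeries (Fin 2) T) (G : MvPowerSeries (Fin 2) T),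
      θ (Ideal.Quotient.mk _ G) = Ideal.Quotient.mk _ F → constantCoeff G ∈ maximalIdeal T →
        constantCoeff F ∈ maximalIdeal T := by
    intro F G hFG hG hFu
    have hu : IsUnit (θ (Ideal.Quotient.mk _ G)) := hFG ▸ (isUnit_iff_constantCoeff.2 hFu).map _
    obtain ⟨w, hw⟩ := ((MulEquiv.isUnit_map θ).1 hu).exists_right_inv
    obtain ⟨W, rfl⟩ := Ideal.Quotient.mk_surjective w
    rw [← map_mul, ← map_one (Ideal.Quotient.mk _), Ideal.Quotient.eq] at hw
    obtain ⟨K, hK⟩ := Ideal.mem_span_singleton.1 hw
    have h2 := congrArg constantCoeff hK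
    simp only [map_mul, map_sub, map_one, constantCoeff_X, constantCoeff_C, zero_mul, zero_sub] at h2
    refine (maximalIdeal.isMaximal T).ne_top ((Ideal.eq_top_iff_one _).2 ?_)
    rw [show (1 : T) = constantCoeff G * constantCoeff W + algebraMap R T b * constantCoeff K by
      linear_combination -h2]
    exact add_mem (Ideal.mul_mem_right _ _ hG) (Ideal.mul_mem_right _ _ (hmem b hb))
  have hu0 : constantCoeff U ∈ maximalIdeal T := hnonunit U (X 0) hU.symm (by simp)
  have hv0 : constantCoeff V ∈ maximalIdeal T := hnonunit V (X 1) hV.symm (by simp)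
  -- the linear terms of `U`, `V` span modulo the maximal ideal
  let π : MvPowerSeries (Fin 2) T →+* MvPowerSeries (Fin 2) (ResidueField T) := MvPowerSeries.map (residue T)
  have hπa : π (X 0 * X 1 - C a') = X 0 * X 1 := by
    simp [π, map_X, map_C, a', residue_eq_zero_iff, hmem a ha]
  have hspan : ∀ i : Fin 2, ∃ p q : ResidueField T, ∀ j : Fin 2,
      (if j = i then (1 : ResidueField T) else 0) =
        p * residue T (coeff (e1 j) U) + q * residue T (coeff (e1 j) V) := by
    intro i
    obtain ⟨G, hG⟩ := Ideal.Quotient.mk_surjective (θ.symm (Ideal.Quotient.mk _ (X i)))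
    have hθG : θ (Ideal.Quotient.mk _ G) = Ideal.Quotient.mk _ (X i) := by rw [hG, RingEquiv.apply_symm_apply]
    have hG0 : constantCoeff G ∈ maximalIdeal T := by
      intro hu
      have hXu := hθG ▸ ((isUnit_iff_constantCoeff.2 hu).map _).map θ
      obtain ⟨w, hw⟩ := hXu.exists_right_inv
      obtain ⟨W, rfl⟩ := Ideal.Quotient.mk_surjective w
      rw [← map_mul, ← map_one (Ideal.Quotient.mk _), Ideal.Quotient.eq] at hw
      obtain ⟨K, hK⟩ := Ideal.mem_span_singleton.1 hw
      have h2 := congrArg constantCoeff hK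
      simp only [map_mul, map_sub, map_one, constantCoeff_X, constantCoeff_C, zero_mul, zero_sub] at h2
      refine (maximalIdeal.isMaximal T).ne_top ((Ideal.eq_top_iff_one _).2 ?_)
      rw [show (1 : T) = algebraMap R T a * constantCoeff K by linear_combination -h2]
      exact Ideal.mul_mem_right _ _ (hmem a ha)
    obtain ⟨P, Q, hPQ⟩ := exists_eq_of_constantCoeff_eq_zero (G - C (constantCoeff G)) (by simp)
    obtain ⟨P', hP'⟩ := Ideal.Quotient.mk_surjective (θ (Ideal.Quotient.mk _ P))
    obtain ⟨Q', hQ'⟩ := Ideal.Quotient.mk_surjective (θ (Ideal.Quotient.mk _ Q))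
    -- the image of the constant term has all coefficients in the maximal ideal
    let cb := (Ideal.Quotient.mk (Ideal.span {(X 0 * X 1 - C b' : MvPowerSeries (Fin 2) T)})).comp C
    let ca := (Ideal.Quotient.mk (Ideal.span {(X 0 * X 1 - C a' : MvPowerSeries (Fin 2) T)})).comp C
    have hcomp : (θ.toRingHom.comp cb).comp (algebraMap R T) = ca.comp (algebraMap R T) :=
      RingHom.ext fun r => hθ r
    have hz : θ (cb (constantCoeff G)) ∈ (((maximalIdeal R).map (algebraMap R T)).map C).map
        (Ideal.Quotient.mk (Ideal.span {(X 0 * X 1 - C a' : MvPowerSeries (Fin 2) T)})) := by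
      rw [Ideal.map_map, Ideal.map_map]
      show _ ∈ Ideal.map (ca.comp (algebraMap R T)) _
      rw [← hcomp, ← Ideal.map_map]
      refine Ideal.mem_map_of_mem (θ.toRingHom.comp cb) ?_
      rwa [← AdicCompletion.maximalIdeal_eq_map]
    obtain ⟨Z, hZ, hZe⟩ := (Ideal.mem_map_iff_of_surjective _ Ideal.Quotient.mk_surjective).1 hz
    have hπZ : π Z = 0 := by
      have hle : ((maximalIdeal R).map (algebraMap R T)).map C ≤ RingHom.ker π := by
        rw [Ideal.map_le_iff_le_comap, Ideal.map_le_iff_le_comap]
        intro r hr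
        simp [π, map_C, residue_eq_zero_iff, hmem r hr]
      exact hle hZ
    have e : (Ideal.Quotient.mk (Ideal.span {(X 0 * X 1 - C a' : MvPowerSeries (Fin 2) T)}))
        (X i - (U * P' + V * Q' + Z)) = 0 := by
      rw [map_sub, map_add, map_add, map_mul, map_mul, hU, hV, hP', hQ', hZe, ← hθG]
      simp only [cb, RingHom.comp_apply]
      rw [← map_mul θ, ← map_mul θ, ← map_add θ, ← map_add θ, ← map_sub θ, ← map_mul, ← map_mul, ← map_add,
        ← map_add, ← map_sub, show G - (X 0 * P + X 1 * Q + C (constantCoeff G)) = 0 by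
          linear_combination hPQ, map_zero, map_zero]
    obtain ⟨K, hK⟩ := Ideal.mem_span_singleton.1 (Ideal.Quotient.eq_zero_iff_mem.1 e)
    have hK' := congrArg π hK
    rw [map_mul, hπa, map_sub, map_add, map_add, map_mul, map_mul, hπZ, add_zero, sub_eq_iff_eq_add] at hK'
    refine ⟨residue T (constantCoeff P'), residue T (constantCoeff Q'), fun j => ?_⟩
    have hj := congrArg (coeff (e1 j)) hK'
    rw [map_add, map_add, coeff_XX_mul, zero_add, coeff_e1_mul, coeff_e1_mul, show π (X i) = X i from map_X _ _] at hj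
    have hu0' : constantCoeff (π U) = 0 := by
      rw [show constantCoeff (π U) = residue T (constantCoeff U) from constantCoeff_map _ _, residue_eq_zero_iff]
      exact hu0
    have hv0' : constantCoeff (π V) = 0 := by
      rw [show constantCoeff (π V) = residue T (constantCoeff V) from constantCoeff_map _ _, residue_eq_zero_iff]
      exact hv0
    rw [hu0', hv0', zero_mul, zero_mul, zero_add, zero_add, coeff_X] at hj
    have hc : ∀ F : MvPowerSeries (Fin 2) T, constantCoeff (π F) = residue T (constantCoeff F) :=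
      fun F => constantCoeff_map _ _
    rw [hc, hc] at hj
    have hij : (e1 j = Finsupp.single i 1) ↔ j = i :=
      ⟨fun h => Finsupp.single_left_injective one_ne_zero h, fun h => by rw [h]⟩
    rw [if_congr hij rfl rfl] at hj
    rw [hj]
    simp only [π, coeff_map]
    ring
  -- so the determinant of the linear terms is a unit
  obtain ⟨p, q, hpq⟩ := hspan 0
  obtain ⟨r, s, hrs⟩ := hspan 1
  have hp0 := hpq 0; have hp1 := hpq 1; have hr0 := hrs 0; have hr1 := hrs 1
  simp only [if_true, Fin.zero_eq_one_iff, Nat.succ_ne_self, OfNat.ofNat_ne_one, one_ne_zero, if_false,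
    zero_ne_one] at hp0 hp1 hr0 hr1
  set α := coeff (e1 0) U; set β := coeff (e1 1) U; set γ := coeff (e1 0) V; set δ := coeff (e1 1) V
  have hdet : IsUnit (α * δ - β * γ) := by
    rw [← residue_ne_zero_iff_isUnit, map_sub, map_mul, map_mul]
    intro h0
    have : (p * s - q * r) * (residue T α * residue T δ - residue T β * residue T γ) = 1 := by
      linear_combination (-(r * residue T β + s * residue T δ)) * hp0 - hr1 +
        (r * residue T α + s * residue T γ) * hp1
    rw [h0, mul_zero] at this
    exact zero_ne_one this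
  -- constant and linear coefficients of `U V - b = (XY - a) H`
  have hlin : ∀ i, constantCoeff U * coeff (e1 i) V + coeff (e1 i) U * constantCoeff V ∈ Ideal.span {a'} := by
    intro i
    have h := congrArg (coeff (e1 i)) hH
    rw [map_sub, coeff_e1_mul, coeff_C_of_ne_zero (by simp [e1]), sub_zero, sub_mul, map_sub, coeff_XX_mul,
      coeff_C_mul] at h
    rw [h, zero_sub]
    exact neg_mem (Ideal.mul_mem_right _ _ (Ideal.mem_span_singleton_self _))
  have hu : constantCoeff U ∈ Ideal.span {a'} := by
    refine (Ideal.unit_mul_mem_iff_mem _ hdet).1 ?_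
    rw [show (α * δ - β * γ) * constantCoeff U =
      α * (constantCoeff U * δ + β * constantCoeff V) - β * (constantCoeff U * γ + α * constantCoeff V) by ring]
    exact sub_mem (Ideal.mul_mem_left _ _ (hlin 1)) (Ideal.mul_mem_left _ _ (hlin 0))
  have h0 := congrArg constantCoeff hH
  simp only [map_mul, map_sub, constantCoeff_C, constantCoeff_X, zero_mul, zero_sub] at h0
  rw [show b' = constantCoeff U * constantCoeff V + a' * constantCoeff H by linear_combination -h0]
  exact add_mem (Ideal.mul_mem_right _ _ hu) (Ideal.mul_mem_right _ _ (Ideal.mem_span_singleton_self _))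

theorem mem_span {A : Type u} [CommRing A] [IsLocalRing A] [IsNoetherianRing R]
    (φ : R →+* A) {a b : R} (ha : a ∈ maximalIdeal R) (hb : b ∈ maximalIdeal R)
    (h₁ : DualGr.IsThickNode φ a) (h₂ : DualGr.IsThickNode φ b) : b ∈ Ideal.span {a} := by
  obtain ⟨e₁, he₁⟩ := h₁
  obtain ⟨e₂, he₂⟩ := h₂
  have h := mem_span_of_equiv ha hb (e₂.symm.trans e₁) fun r => by
    rw [RingEquiv.trans_apply, ← he₂ r, RingEquiv.symm_apply_apply, he₁]
  have : IsLocalHom (algebraMap R (Curv2.cpl R)) :=
    ((IsLocalRing.local_hom_TFAE _).out 0 2).mpr (by rw [AdicCompletion.maximalIdeal_eq_map])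
  have : Module.FaithfullyFlat R (Curv2.cpl R) := Module.FaithfullyFlat.of_flat_of_isLocalHom
  rw [← Ideal.comap_map_eq_self_of_faithfullyFlat (B := Curv2.cpl R) (Ideal.span {a}),
    Ideal.mem_comap, Ideal.map_span, Set.image_singleton]
  exact h

end GrothLib.ThickNode
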